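import Cfsg.Agent.BenderWorld.TwoTransitive
import Cfsg.Agent.BenderWorld.Shape.WorldFacts

/-!
# World to `Shape.Setup`: elements of odd prime power order and involutions

For an odd prime `r` either `r` divides `m`, and slice D applies, or `r`-groups fixing points centralise
involutions there because `m` is prime to `r`.
-/

set_option autoImplicit false
set_option linter.style.haveILetI false

namespace CfsgLib.BenderWorld.Shape.OfWorld

open CfsgLib.Small CfsgLib.SEmbed Subgroup

variable {G : Type*} [Group G]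

/-- An element of odd order lies in a subgroup containing a `2`-power of it. -/
theorem mem_of_odd_of_pow_mem {K : Subgroup G} {x : G} (hx : Odd (orderOf x)) {n : ℕ}
    (h : x ^ 2 ^ n ∈ K) : x ∈ K := by
  obtain ⟨l, hl⟩ := exists_pow_eq_self_of_coprime (x := x) (n := 2 ^ n)
    ((Nat.coprime_two_left.2 hx).pow_left n)
  exact hl ▸ K.pow_mem h l

/-- Conjugation by an element of odd order inverting `p` of odd order only for `p = 1`. -/
theorem eq_one_of_conj_eq_inv {p g : G} (hp : Odd (orderOf p)) (hg : Odd (orderOf g))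
    (h : g * p * g⁻¹ = p⁻¹) : p = 1 := by
  have h2 : g ^ 2 ^ 1 ∈ centralizer ({p} : Set G) := by
    rw [mem_centralizer_singleton_iff, pow_one, sq]
    calc g * g * p = g * (g * p * g⁻¹) * g := by group
      _ = g * p⁻¹ * g := by rw [h]
      _ = (g * p * g⁻¹)⁻¹ * (g * g) := by group
      _ = p * (g * g) := by rw [h, inv_inv]
  have h1 : Commute g p := mem_centralizer_singleton_iff.1 (mem_of_odd_of_pow_mem hg h2)
  rw [h1.eq, mul_inv_cancel_right] at h
  have h3 : p ^ 2 ^ 1 ∈ (⊥ : Subgroup G) := by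
    rw [mem_bot, pow_one, sq]; exact mul_eq_one_iff_eq_inv.2 h
  exact mem_bot.1 (mem_of_odd_of_pow_mem hp h3)

variable [Finite G]

omit [Finite G] in
theorem odd_orderOf {K : Subgroup G} (hK : Odd (Nat.card K)) {x : G} (hx : x ∈ K) : Odd (orderOf x) :=
  hK.of_dvd_nat (Subgroup.orderOf_dvd_natCard K hx)

/-- A power of prime order. -/
theorem exists_pow_prime {x : G} (hx : x ≠ 1) :
    ∃ r : ℕ, r.Prime ∧ r ∣ orderOf x ∧ orderOf (x ^ (orderOf x / r)) = r := by
  obtain ⟨r, hr, hrx⟩ := Nat.exists_prime_and_dvd (mt orderOf_eq_one_iff.1 hx)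
  refine ⟨r, hr, hrx, ?_⟩
  rw [orderOf_pow_of_dvd (Nat.div_pos (Nat.le_of_dvd (orderOf_pos x) hrx) hr.pos).ne'
    (Nat.div_dvd_of_dvd hrx), Nat.div_div_self hrx (orderOf_pos x).ne']

omit [Finite G] in
/-- A normal subgroup of `M` of odd order lies in its odd core. -/
theorem le_coreIn {M N : Subgroup G} (hNM : N ≤ M) (hn : M ≤ normalizer (N : Set G))
    (hodd : Odd (Nat.card N)) : N ≤ coreIn M := by
  haveI : (N.subgroupOf M).Normal := (normal_subgroupOf_iff_le_normalizer hNM).2 hn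
  intro x hx
  refine ⟨⟨x, hNM hx⟩, CfsgLib.PLocal.le_pPrimeCore ?_ (show _ ∈ N.subgroupOf M from hx), rfl⟩
  rw [Nat.card_congr (subgroupOfEquivOfLe hNM).toEquiv]
  exact Nat.coprime_two_right.2 hodd

theorem odd_coreIn (M : Subgroup G) : Odd (Nat.card (coreIn M)) := by
  rw [coreIn, card_map_of_injective M.subtype_injective]
  exact CfsgLib.TwoGroups.odd_card_oddCore

omit [Finite G] in
theorem coreIn_le (M : Subgroup G) : coreIn M ≤ M := map_subtype_le _

omit [Finite G] in
/-- Elements normalising `M` normalise its core. -/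
theorem conj_mem_coreIn {M : Subgroup G} {e : G} (he : e ∈ normalizer (M : Set G)) {o : G}
    (ho : o ∈ coreIn M) : e * o * e⁻¹ ∈ coreIn M := by
  obtain ⟨o, ho, rfl⟩ := ho
  let φ : M ≃* M :=
    { toFun := fun y => ⟨e * y * e⁻¹, (mem_normalizer_iff.1 he y).1 y.2⟩
      invFun := fun y => ⟨e⁻¹ * y * e, (mem_normalizer_iff''.1 he y).1 y.2⟩
      left_inv := fun y => by ext; simp [mul_assoc]
      right_inv := fun y => by ext; simp [mul_assoc]
      map_mul' := fun y z => by ext; simp [mul_assoc] }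
  exact ⟨φ o, (CfsgLib.PLocal.map_pPrimeCore_equiv (p := 2) φ).le ⟨o, ho, rfl⟩, rfl⟩

omit [Finite G] in
/-- The class of `w` under `K` times the centraliser. -/
theorem card_class_mul (K : Subgroup G) (w : G) :
    Nat.card {i | ∃ k ∈ K, k * w * k⁻¹ = i} * Nat.card ↥(K ⊓ centralizer ({w} : Set G)) =
      Nat.card K := by
  letI : MulAction K G := MulAction.compHom G
    ((ConjAct.toConjAct (G := G)).toMonoidHom.comp K.subtype)
  have hsmul : ∀ (k : K) (g : G), k • g = k * g * (k : G)⁻¹ := fun _ _ => rfl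
  have horb : {i | ∃ k ∈ K, k * w * k⁻¹ = i} = MulAction.orbit K w := by
    ext i
    exact ⟨fun ⟨k, hk, e⟩ => ⟨⟨k, hk⟩, e⟩, fun ⟨k, e⟩ => ⟨k, k.2, e⟩⟩
  have hstab : (centralizer ({w} : Set G)).subgroupOf K = MulAction.stabilizer K w := by
    ext k
    rw [mem_subgroupOf, mem_centralizer_singleton_iff, MulAction.mem_stabilizer_iff, hsmul,
      mul_inv_eq_iff_eq_mul]
  rw [horb, inf_comm, ← Nat.card_congr
    (subgroupOfEquivOfLe (inf_le_right : centralizer ({w} : Set G) ⊓ K ≤ K)).toEquiv,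
    inf_subgroupOf_right, hstab, ← Nat.card_prod]
  exact Nat.card_congr (MulAction.orbitProdStabilizerEquivGroup K w)

variable {Ω : Type*} [MulAction G Ω]

/-- What slices A to C hand over. -/
abbrev Ready (G : Type*) [Group G] (Ω : Type*) [MulAction G Ω] : Prop := Clean G Ω

theorem numInv_eq (hu : UniqueFix G Ω) (a b : Ω) : numInv G a = numInv G b := card_invMap_self hu a b

/-- The interchange of two involutions, in any subgroup containing them. -/
theorem exists_interchange_in (hu : UniqueFix G Ω) {M : Subgroup G} {x y : Ω} (hxy : x ≠ y) {s t : G}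
    (hs : s ∈ invMap (G := G) x x) (ht : t ∈ invMap (G := G) y y) (hsM : s ∈ M) (htM : t ∈ M) :
    ∃ i ∈ M, i ∈ invMap (G := G) x y ∧ i * s * i⁻¹ = t := by
  obtain ⟨m, hm, hmt⟩ := exists_conj_in hu hsM htM hs.1 ht.1 hs.2 ht.2 hxy
  obtain ⟨k, hk⟩ := conj_pow_eq_of_odd hs.1 ht.1 (odd_mul hu hs.1 ht.1 hs.2 ht.2 hxy)
  set v := (s * t) ^ k
  have hv : s * v * s = v⁻¹ := by
    have := invol_conj_pow (invol_conj_mul hs.1 ht.1) k
    rwa [inv_eq_self_of_orderOf_two hs.1] at this
  have hconj : (v * s) * s * (v * s)⁻¹ = t := by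
    rw [← hk]; group
  have hvM : v * s ∈ M := mul_mem (pow_mem (mul_mem hsM htM) k) hsM
  have hmove : (v * s) • x = y := hu.unique t ht.1 _ _ (by
    rw [← hconj, smul_smul, inv_mul_cancel_right, mul_smul, hs.2]) ht.2
  refine ⟨v * s, hvM, ⟨orderOf_eq_prime ?_ fun h1 => hxy (by rw [← hmove, h1, one_smul]), hmove⟩, hconj⟩
  rw [sq, mul_assoc, ← mul_assoc s, hv, mul_inv_cancel]

/-- An element fixing two involutions fixes their interchange. -/
theorem commute_interchange (hu : UniqueFix G Ω) {x y : Ω} (hxy : x ≠ y) {s t i d : G}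
    (hs : s ∈ invMap (G := G) x x) (ht : t ∈ invMap (G := G) y y) (hi : i ∈ invMap (G := G) x y)
    (hist : i * s * i⁻¹ = t) (hds : Commute d s) (hdt : Commute d t) : Commute d i := by
  have hd : d ∈ pairStab G x y :=
    mem_pairStab.2 ⟨commute_fix hu hs.1 hds hs.2, commute_fix hu ht.1 hdt ht.2⟩
  obtain ⟨j, -, huniq⟩ := existsUnique_interchange hu hxy hs ht
  have h2 := huniq (d * i * d⁻¹) ⟨conj_mem_invMap_pair hd hi, by
    calc d * i * d⁻¹ * s * (d * i * d⁻¹)⁻¹ = d * i * (d⁻¹ * s * d) * i⁻¹ * d⁻¹ := by group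
      _ = d * (i * s * i⁻¹) * d⁻¹ := by
          rw [show d⁻¹ * s * d = s by rw [mul_assoc, ← hds.eq, inv_mul_cancel_left]]; group
      _ = t := by rw [hist, hdt.eq, mul_inv_cancel_right]⟩
  exact mul_inv_eq_iff_eq_mul.1 (h2.trans (huniq i ⟨hi, hist⟩).symm)

variable {r : ℕ} [hr : Fact r.Prime]

/-- For `r` prime to `m` an `r`-group fixing `x` and `y` centralises an involution mapping `x` to `y`. -/
theorem exists_commute_of_not_dvd (hu : UniqueFix G Ω) {x y : Ω} (hnd : ¬ r ∣ numInv G x)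
    {S : Subgroup G} (hS : IsPGroup r S) (hfix : S ≤ pairStab G x y) :
    ∃ i ∈ invMap (G := G) x y, ∀ s ∈ S, Commute s i := by
  have hmem : ∀ s : S, ∀ i : invMap (G := G) x y,
      (s : G) * i.1 * (s : G)⁻¹ ∈ invMap (G := G) x y :=
    fun s i => conj_mem_invMap_pair (hfix s.2) i.2
  letI : MulAction S (invMap (G := G) x y) := {
    smul := fun s i => ⟨(s : G) * i.1 * (s : G)⁻¹, hmem s i⟩
    one_smul := fun i => Subtype.ext (by show (1 : G) * i.1 * (1 : G)⁻¹ = i.1; group)
    mul_smul := fun s s' i => Subtype.ext (by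
      show ((s * s' : S) : G) * i.1 * ((s * s' : S) : G)⁻¹ =
        (s : G) * ((s' : G) * i.1 * (s' : G)⁻¹) * (s : G)⁻¹
      rw [Subgroup.coe_mul]; group) }
  obtain ⟨i, hi⟩ := hS.nonempty_fixed_point_of_prime_not_dvd_card (invMap (G := G) x y) (by
    rcases eq_or_ne x y with rfl | hxy
    · exact hnd
    · rwa [card_invMap_eq hu hxy])
  exact ⟨i.1, i.2, fun s hs => mul_inv_eq_iff_eq_mul.1 (congrArg Subtype.val (hi ⟨s, hs⟩))⟩

/-- For `r` prime to `m` a swapper normalising an `r`-group of `D` centralises it. -/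
theorem commute_swapper_of_not_dvd (hu : UniqueFix G Ω) {x y : Ω} (hxy : x ≠ y)
    (hnd : ¬ r ∣ numInv G x) {T : Subgroup G} (hT : IsPGroup r T) (hTD : T ≤ pairStab G x y) {u : G}
    (hu' : u ∈ invMap (G := G) x y) (hn : u ∈ normalizer (T : Set G)) : ∀ g ∈ T, Commute g u := by
  obtain ⟨u₀, hu₀, hc⟩ := exists_commute_of_not_dvd hu hnd hT hTD
  have hD : u₀ * u ∈ pairStab G x y := mem_pairStab.2
    ⟨by rw [mul_smul, hu'.2, smul_back hu₀.1 hu₀.2],
     by rw [mul_smul, smul_back hu'.1 hu'.2, hu₀.2]⟩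
  have hN : u₀ * u ∈ normalizer (T : Set G) := mul_mem
    (centralizer_le_normalizer _ (mem_centralizer_iff.2 fun g hg => (hc g hg).eq)) hn
  obtain ⟨k, hk⟩ := conj_pow_eq_of_odd hu₀.1 hu'.1 (odd_orderOf (odd_pairStab hu hxy) hD)
  intro g hg
  set v := (u₀ * u) ^ k
  have hg' : v⁻¹ * g * v ∈ T := (mem_normalizer_iff''.1 (pow_mem hN k) g).1 hg
  rw [← hk]
  show g * (v * u₀ * v⁻¹) = v * u₀ * v⁻¹ * g
  calc g * (v * u₀ * v⁻¹) = v * ((v⁻¹ * g * v) * u₀) * v⁻¹ := by group
    _ = _ := by rw [(hc _ hg').eq]; group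

/-- A prime power group in a pair stabilizer centralised by an involution at one of the points is
centralised by a swapper and by an involution at the other point. -/
theorem Ready.star (h : Ready G Ω) {a b : Ω} (hab : a ≠ b) {t : G} (ht : t ∈ invMap (G := G) a a)
    {S : Subgroup G} (hS : IsPGroup r S) (hSD : S ≤ pairStab G a b) (hne : S ≠ ⊥)
    (hSt : ∀ s ∈ S, Commute s t) :
    (∃ w ∈ invMap (G := G) a b, ∀ s ∈ S, Commute s w) ∧
      ∃ v ∈ invMap (G := G) b b, ∀ s ∈ S, Commute s v := by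
  have hu := h.world.uf
  by_cases hdvd : r ∣ numInv G a
  · exact (h.good hdvd).star hab ht hS hSD
      (fun s hs => mem_centralizer_singleton_iff.2 (hSt s hs).eq) hne
  · refine ⟨exists_commute_of_not_dvd hu hdvd hS hSD, exists_commute_of_not_dvd hu ?_ hS fun s hs =>
      mem_pairStab.2 ⟨(mem_pairStab.1 (hSD hs)).2, (mem_pairStab.1 (hSD hs)).2⟩⟩
    rwa [numInv_eq hu b a]

/-- An element of prime order fixing three points commutes with an involution at each of them. -/
theorem Ready.exists_invol_of_three (h : Ready G Ω) {g : G} (hg : orderOf g = r) {a b c : Ω}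
    (hab : a ≠ b) (hac : a ≠ c) (hbc : b ≠ c) (hga : g • a = a) (hgb : g • b = b) (hgc : g • c = c) :
    ∃ t ∈ invMap (G := G) a a, Commute g t := by
  have hu := h.world.uf
  have hQ : IsPGroup r (zpowers g) := IsPGroup.of_card (n := 1) (by rw [Nat.card_zpowers, hg, pow_one])
  have hfix : ∀ p : Ω, g • p = p → p ∈ fixSet (Ω := Ω) (zpowers g) := fun p hp s hs =>
    (MulAction.mem_stabilizer_iff).1 (zpowers_le.2 (show g ∈ MulAction.stabilizer G p from hp) hs)
  obtain ⟨t, ht, htc⟩ : ∃ t ∈ invMap (G := G) a a, ∀ s ∈ zpowers g, Commute s t := by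
    by_cases hdvd : r ∣ numInv G a
    · have hne : zpowers g ≠ ⊥ := zpowers_ne_bot.2 fun e => by
        rw [e, orderOf_one] at hg
        exact hr.out.one_lt.ne hg
      exact (h.good hdvd).exists_invol_at hQ hne (hfix a hga) (hfix b hgb) (hfix c hgc) hab hac hbc
        (hfix a hga)
    · exact exists_commute_of_not_dvd hu hdvd hQ fun s hs =>
        mem_pairStab.2 ⟨hfix a hga s hs, hfix a hga s hs⟩
  exact ⟨t, ht, htc g (mem_zpowers g)⟩

omit hr in
/-- A subgroup is centralised by `w` if it has for each prime a Sylow subgroup centralised by `w`. -/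
theorem le_centralizer_of_sylow {K : Subgroup G} {w : G}
    (hsyl : ∀ r : ℕ, r.Prime → r ∣ Nat.card K → ∃ S : Subgroup G, S ≤ K ∧
      Nat.card S = r ^ (Nat.card K).factorization r ∧ ∀ s ∈ S, Commute s w) :
    ∀ k ∈ K, Commute k w := by
  set C := K ⊓ centralizer ({w} : Set G) with hC
  have hdvd : Nat.card K ∣ Nat.card C := by
    refine (Nat.factorization_prime_le_iff_dvd Nat.card_pos.ne' Nat.card_pos.ne').1 fun r hr => ?_
    by_cases hrK : r ∣ Nat.card K
    · obtain ⟨S, hSK, hSc, hSw⟩ := hsyl r hr hrK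
      have h1 := card_dvd_of_le (le_inf hSK fun s hs =>
        mem_centralizer_singleton_iff.2 (hSw s hs).eq : S ≤ C)
      rw [hSc] at h1
      exact (hr.pow_dvd_iff_le_factorization Nat.card_pos.ne').1 h1
    · rw [Nat.factorization_eq_zero_of_not_dvd hrK]; exact Nat.zero_le _
  intro k hk
  have : C = K := eq_of_le_of_card_ge inf_le_left (Nat.le_of_dvd Nat.card_pos hdvd)
  exact mem_centralizer_singleton_iff.1 (show k ∈ C from this ▸ hk).2

omit hr in
/-- Normal subgroups of odd order of a point stabilizer centralise its involutions. -/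
theorem Ready.commute_normal_odd (h : Ready G Ω) {a b : Ω} (hab : a ≠ b) {t : G}
    (ht : t ∈ invMap (G := G) a a) {N : Subgroup G} (hNa : N ≤ MulAction.stabilizer G a)
    (hn : MulAction.stabilizer G a ≤ normalizer (N : Set G)) (hodd : Odd (Nat.card N)) :
    ∀ x ∈ N, Commute x t := by
  refine le_centralizer_of_sylow fun r hr _ => ?_
  haveI := Fact.mk hr
  have hu := h.world.uf
  have htN : t ∈ normalizer (N : Set G) := hn ht.2
  by_cases hdvd : r ∣ numInv G a
  · obtain ⟨S, hS⟩ := CfsgLib.Coprime.exists_invariant_sylow (A := zpowers t) (G := N)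
      (zpowers_le.2 htN) (by rw [Nat.card_zpowers, ht.1]; exact Nat.coprime_two_left.2 hodd)
      (Or.inl (Group.isSolvable_of_comm fun a b => mul_comm' a b)) r
    refine ⟨(S : Subgroup N).map N.subtype, map_subtype_le _, ?_, ?_⟩
    · rw [card_map_of_injective N.subtype_injective]; exact S.card_eq_multiplicity
    · exact (h.good hdvd).commute_of_fix ht (S.2.map _) (zpowers_le.1 hS)
        fun s hs => hNa (map_subtype_le _ hs)
  · obtain ⟨R, -, hRN, hR, hRc⟩ := exists_maximal_le (q := r) (K := N) IsPGroup.of_bot bot_le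
    obtain ⟨t', ht', htc⟩ := exists_commute_of_not_dvd hu hdvd hR fun s hs =>
      mem_pairStab.2 ⟨hNa (hRN hs), hNa (hRN hs)⟩
    obtain ⟨d, hd, hdt⟩ := exists_conj_fix hu hab ht' ht
    refine ⟨R.map (MulAut.conj d).toMonoidHom, ?_, ?_, ?_⟩
    · rintro _ ⟨s, hs, rfl⟩
      exact (mem_normalizer_iff.1 (hn (mem_pairStab.1 hd).1) s).1 (hRN hs)
    · rw [card_map_of_injective (f := (MulAut.conj d).toMonoidHom) (MulAut.conj d).injective, hRc]
    · rintro _ ⟨s, hs, rfl⟩
      rw [← hdt]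
      show d * s * d⁻¹ * (d * t' * d⁻¹) = d * t' * d⁻¹ * (d * s * d⁻¹)
      calc d * s * d⁻¹ * (d * t' * d⁻¹) = d * (s * t') * d⁻¹ := by group
        _ = _ := by rw [(htc s hs).eq]; group

end CfsgLib.BenderWorld.Shape.OfWorld
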