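import Cfsg.Agent.BenderWorld.Shape.OfWorld.Local
import Cfsg.Agent.PrimeGraph.Lucido
import Cfsg.Agent.S0205

/-!
# World to `Shape.Setup`: star for `C_D(t)`, fixed points and centralisers
-/

set_option autoImplicit false
set_option linter.style.haveILetI false

namespace CfsgLib.BenderWorld.Shape.OfWorld

open CfsgLib.Small CfsgLib.SEmbed Subgroup

universe u

variable {G : Type u} [Group G] [Finite G] {Ω : Type*} [MulAction G Ω]

omit [Finite G] in
/-- The centralizer of a nontrivial subgroup of odd order is proper. -/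
theorem Ready.centralizer_ne_top (h : Ready G Ω) {N : Subgroup G} (hne : N ≠ ⊥) {t : G}
    (ht : orderOf t = 2) (hN : Odd (Nat.card N)) : centralizer (N : Set G) ≠ ⊤ := by
  intro e
  haveI := h.world.simple
  haveI : N.Normal := ⟨fun y hy k => by
    rw [← mem_centralizer_iff.1 (e.ge (mem_top k)) y hy, mul_inv_cancel_right]; exact hy⟩
  rcases IsSimpleGroup.eq_bot_or_eq_top_of_normal N inferInstance with h0 | h0
  · exact hne h0
  · have h1 := Subgroup.orderOf_dvd_natCard N (h0.ge (mem_top t))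
    rw [ht] at h1
    exact hN.not_two_dvd_nat h1

omit [Finite G] in
theorem mem_centralizer_singleton {x g : G} (h : Commute g x) : g ∈ centralizer ({x} : Set G) :=
  mem_centralizer_singleton_iff.2 h.eq

omit [Finite G] in
theorem Ready.centralizer_singleton_ne_top (h : Ready G Ω) {x : G} (hx : x ≠ 1) (hodd : Odd (orderOf x))
    {t : G} (ht : orderOf t = 2) : centralizer ({x} : Set G) ≠ ⊤ := by
  intro e
  refine h.centralizer_ne_top (zpowers_ne_bot.2 hx) ht (by rwa [Nat.card_zpowers]) (top_le_iff.1 ?_)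
  intro k _
  refine mem_centralizer_iff.2 fun y hy => ?_
  obtain ⟨n, rfl⟩ := mem_zpowers_iff.1 hy
  exact ((show Commute k x from mem_centralizer_singleton_iff.1 (e.ge (mem_top k))).zpow_right n).eq.symm

/-- **Group star**: `C_D(t)` is centralised by a swapper. -/
theorem Ready.exists_swapper (h : Ready G Ω) {a b : Ω} (hab : a ≠ b) {t : G}
    (ht : t ∈ invMap (G := G) a a) :
    ∃ w ∈ invMap (G := G) a b,
      ∀ d ∈ pairStab G a b ⊓ centralizer ({t} : Set G), Commute d w := by
  have hu := h.world.uf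
  set E := pairStab G a b ⊓ centralizer ({t} : Set G) with hE
  obtain ⟨s, hs⟩ := hu.exists_inv b
  obtain ⟨w₀, hw₀, -⟩ := exists_interchange hu ht.1 hs.1 ht.2 hs.2 hab
  by_cases hE1 : E = ⊥
  · exact ⟨w₀, hw₀, fun d hd => by
      rw [mem_bot.1 (hE1.le hd)]; exact Commute.one_left w₀⟩
  haveI : Nontrivial E := (Subgroup.nontrivial_iff_ne_bot E).2 hE1
  have hoddE : Odd (Nat.card E) := (odd_pairStab hu hab).of_dvd_nat (card_dvd_of_le inf_le_left)
  obtain ⟨V, r, hr, hVn, hV1, -, hVe⟩ :=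
    CfsgLib.PrimeGraph.exists_normal_elementary (G := E) (Cfsg.Agent.S0205.result hoddE)
  haveI := Fact.mk hr
  set N := V.map E.subtype with hN
  have hNE : N ≤ E := map_subtype_le _
  have hNr : IsPGroup r N := IsPGroup.map (fun v : V => ⟨1, Subtype.ext (by
    rw [pow_one]; exact hVe v v.2)⟩) E.subtype
  have hN1 : N ≠ ⊥ := fun e => hV1 ((map_eq_bot_iff_of_injective V E.subtype_injective).1 e)
  have hNt : ∀ g ∈ N, Commute g t := fun g hg => mem_centralizer_singleton_iff.1 (hNE hg).2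
  obtain ⟨-, v, hv, hvc⟩ := h.star hab ht hNr (hNE.trans inf_le_left) hN1 hNt
  set M := centralizer (N : Set G) with hM
  have hMtop : M ≠ ⊤ := h.centralizer_ne_top hN1 ht.1 ((hoddE).of_dvd_nat (card_dvd_of_le hNE))
  have htM : t ∈ M := mem_centralizer_iff.2 fun g hg => (hNt g hg).eq
  have hvM : v ∈ M := mem_centralizer_iff.2 fun g hg => (hvc g hg).eq
  have htb : t • b ≠ b := fun e => hab (hu.unique t ht.1 _ _ ht.2 e)
  have hta : a ≠ t • b := fun e => hab (smul_left_cancel t (ht.2.trans e))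
  have hv'M : t * v * t⁻¹ ∈ M := mul_mem (mul_mem htM hvM) (inv_mem htM)
  have hv' : t * v * t⁻¹ ∈ invMap (G := G) (t • b) (t • b) :=
    ⟨by rw [orderOf_conj_eq]; exact hv.1, by rw [mul_smul, mul_smul, inv_smul_smul, hv.2]⟩
  obtain ⟨z, hzM, hz, hzc⟩ := h.exists_invol_commute hMtop hab.symm htb.symm hta hvM hv htM ht hv'M hv'
    (S := (E : Set G)) (fun e he => ⟨CfsgLib.LocalStructure.mem_normalizer_of_forall fun k hk => by
      refine mem_centralizer_iff.2 fun g hg => ?_
      have hg' : e⁻¹ * g * e ∈ N := by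
        obtain ⟨g₀, hg₀, rfl⟩ := hg
        have := hVn.conj_mem g₀ hg₀ ⟨e, he⟩⁻¹
        exact ⟨_, this, by simp⟩
      calc g * (e * k * e⁻¹) = e * ((e⁻¹ * g * e) * k) * e⁻¹ := by group
        _ = e * k * e⁻¹ * g := by rw [mem_centralizer_iff.1 hk _ hg']; group,
      (mem_pairStab.1 he.1).2, (mem_pairStab.1 he.1).1, by
        rw [smul_smul, mem_centralizer_singleton_iff.1 he.2, mul_smul, (mem_pairStab.1 he.1).2]⟩)
  obtain ⟨w, hw, hwz⟩ := exists_interchange hu ht.1 hz.1 ht.2 hz.2 hab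
  exact ⟨w, hw, fun d hd => commute_interchange hu hab ht hz hw hwz
    (mem_centralizer_singleton_iff.1 hd.2) (hzc d hd)⟩

/-- For such a swapper `C_D(w) = C_D(t)`. -/
theorem Ready.commute_iff (h : Ready G Ω) {a b : Ω} (hab : a ≠ b) {t w : G}
    (ht : t ∈ invMap (G := G) a a) (hw : w ∈ invMap (G := G) a b)
    (hEw : ∀ d ∈ pairStab G a b ⊓ centralizer ({t} : Set G), Commute d w) {d : G}
    (hd : d ∈ pairStab G a b) : Commute d w ↔ Commute d t := by
  have hu := h.world.uf
  have hle : pairStab G a b ⊓ centralizer ({t} : Set G) ≤ pairStab G a b ⊓ centralizer ({w} : Set G) :=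
    fun e he => ⟨he.1, mem_centralizer_singleton (hEw e he)⟩
  have hne : numInv G a ≠ 0 := fun e => by
    have := card_pairStab_eq hu hab (Or.inr ht)
    rw [e, zero_mul] at this
    exact Nat.card_pos.ne' this
  have heq := eq_of_le_of_card_ge hle (Nat.eq_of_mul_eq_mul_left (Nat.pos_of_ne_zero hne)
    ((card_pairStab_eq hu hab (Or.inl hw)).symm.trans (card_pairStab_eq hu hab (Or.inr ht)))).le
  exact ⟨fun hc => mem_centralizer_singleton_iff.1 (heq.ge ⟨hd, mem_centralizer_singleton hc⟩).2,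
    fun hc => hEw d ⟨hd, mem_centralizer_singleton hc⟩⟩

/-- **An element fixing three points commutes with an involution at each of them.** -/
theorem Ready.exists_invol_of_fix (h : Ready G Ω) {a b c : Ω} (hab : a ≠ b) (hac : a ≠ c) (hbc : b ≠ c)
    {x : G} (hxa : x • a = a) (hxb : x • b = b) (hxc : x • c = c) :
    ∃ z ∈ invMap (G := G) a a, Commute x z := by
  have hu := h.world.uf
  by_cases hx : x = 1
  · obtain ⟨z, hz⟩ := hu.exists_inv a
    exact ⟨z, hz, hx ▸ Commute.one_left z⟩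
  obtain ⟨r, hr, -, hg⟩ := exists_pow_prime hx
  haveI := Fact.mk hr
  set g := x ^ (orderOf x / r)
  have hfix : ∀ p : Ω, x • p = p → g • p = p := fun p hp =>
    (MulAction.mem_stabilizer_iff).1 (pow_mem (show x ∈ MulAction.stabilizer G p from hp) _)
  obtain ⟨t, ht, htg⟩ := h.exists_invol_of_three hg hab hac hbc (hfix a hxa) (hfix b hxb) (hfix c hxc)
  obtain ⟨v, hv, hvg⟩ :=
    h.exists_invol_of_three hg hab.symm hbc hac (hfix b hxb) (hfix a hxa) (hfix c hxc)
  obtain ⟨v', hv', hv'g⟩ :=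
    h.exists_invol_of_three hg hac.symm hbc.symm hab (hfix c hxc) (hfix a hxa) (hfix b hxb)
  have hg1 : g ≠ 1 := fun e => by
    rw [e, orderOf_one] at hg
    exact hr.one_lt.ne hg
  have hM : centralizer ({g} : Set G) ≠ ⊤ := h.centralizer_singleton_ne_top hg1
    (odd_orderOf (odd_pairStab hu hab) (mem_pairStab.2 ⟨hfix a hxa, hfix b hxb⟩)) ht.1
  obtain ⟨z, -, hz, hzc⟩ := h.exists_invol_commute hM hab hac hbc (mem_centralizer_singleton htg.symm) ht
    (mem_centralizer_singleton hvg.symm) hv (mem_centralizer_singleton hv'g.symm) hv'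
    (S := {x}) (fun e he => by
      rw [Set.mem_singleton_iff] at he
      subst he
      exact ⟨le_normalizer (mem_centralizer_singleton (Commute.self_pow e _)), hxa, hxb, hxc⟩)
  exact ⟨z, hz, hzc x rfl⟩

/-- An element of `D` fixing a third point is conjugate in `D` into `C_D(t)`; so the others form a TI
set. -/
theorem Ready.ti (h : Ready G Ω) {a b : Ω} (hab : a ≠ b) {t : G} (ht : t ∈ invMap (G := G) a a) {d : G}
    (hd : d ∈ pairStab G a b) (hnc : ∀ c ∈ pairStab G a b, ¬ Commute (c * d * c⁻¹) t) {k : G}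
    (hk : k • a = a) (hkd : k * d * k⁻¹ ∈ pairStab G a b) : k ∈ pairStab G a b := by
  refine mem_pairStab.2 ⟨hk, ?_⟩
  by_contra hkb
  have hfix : d • (k⁻¹ • b) = k⁻¹ • b := by
    have h1 := (mem_pairStab.1 hkd).2
    rw [mul_smul, mul_smul] at h1
    exact eq_inv_smul_iff.2 h1
  have hac : a ≠ k⁻¹ • b := fun e => hab (by
    have h1 := (smul_inv_smul k b).symm
    rw [← e, hk] at h1
    exact h1.symm)
  have hbc : b ≠ k⁻¹ • b := fun e => hkb (eq_inv_smul_iff.1 e)
  obtain ⟨z, hz, hzd⟩ :=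
    h.exists_invol_of_fix hab hac hbc (mem_pairStab.1 hd).1 (mem_pairStab.1 hd).2 hfix
  obtain ⟨c, hc, hcz⟩ := exists_conj_fix h.world.uf hab hz ht
  refine hnc c hc ?_
  rw [← hcz]
  show c * d * c⁻¹ * (c * z * c⁻¹) = c * z * c⁻¹ * (c * d * c⁻¹)
  calc c * d * c⁻¹ * (c * z * c⁻¹) = c * (d * z) * c⁻¹ := by group
    _ = _ := by rw [hzd.eq]; group

/-- The involutions at a point commuting with a nontrivial element of `C_D(t)` commute. -/
theorem Ready.commute_cent (h : Ready G Ω) {a b : Ω} (hab : a ≠ b) {t w x s : G}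
    (ht : t ∈ invMap (G := G) a a) (hw : w ∈ invMap (G := G) a b) (hx : x ∈ pairStab G a b) (hx1 : x ≠ 1)
    (hxt : Commute x t) (hxw : Commute x w) (hs : s ∈ invMap (G := G) a a) (hxs : Commute x s) :
    Commute s t :=
  h.invol_comm (h.centralizer_singleton_ne_top hx1
      (odd_orderOf (odd_pairStab h.world.uf hab) hx) ht.1) hab
    (v := w * t * w⁻¹) (mem_centralizer_singleton (((hxw.mul_right hxt).mul_right hxw.inv_right).symm))
    (interchange_conj_mem ht hw) (mem_centralizer_singleton hxs.symm) hs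
    (mem_centralizer_singleton hxt.symm) ht

/-- An element of `D` centralises as many swappers as involutions at `a`. -/
theorem Ready.card_fixedInv (h : Ready G Ω) {a b : Ω} (hab : a ≠ b) {t w d : G}
    (ht : t ∈ invMap (G := G) a a) (hw : w ∈ invMap (G := G) a b)
    (hEw : ∀ d ∈ pairStab G a b ⊓ centralizer ({t} : Set G), Commute d w) (hd : d ∈ pairStab G a b) :
    Nat.card (fixedInv (G := G) d a b) = Nat.card (fixedInv (G := G) d a a) := by
  have hu := h.world.uf
  have hconj : ∀ {c x y : G}, Commute (c * x * c⁻¹) y → Commute x (c⁻¹ * y * c) := fun {c x y} e => by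
    show x * (c⁻¹ * y * c) = c⁻¹ * y * c * x
    calc x * (c⁻¹ * y * c) = c⁻¹ * (c * x * c⁻¹ * y) * c := by group
      _ = _ := by rw [e.eq]; group
  have hconj' : ∀ {c x y : G}, Commute x (c * y * c⁻¹) → Commute (c⁻¹ * x * c) y := fun {c x y} e => by
    show c⁻¹ * x * c * y = y * (c⁻¹ * x * c)
    calc c⁻¹ * x * c * y = c⁻¹ * (x * (c * y * c⁻¹)) * c := by group
      _ = _ := by rw [e.eq]; group
  by_cases hX : (fixedInv (G := G) d a a).Nonempty
  · obtain ⟨i, hi, hdi⟩ := hX
    obtain ⟨c, hc, hct⟩ := exists_conj_fix hu hab ht hi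
    rw [← hct] at hdi
    have hmem : c⁻¹ * d * c ∈ pairStab G a b := mul_mem (mul_mem (inv_mem hc) hd) hc
    have he := hconj' hdi
    have hew : Commute (c⁻¹ * d * c) w := (h.commute_iff hab ht hw hEw hmem).2 he
    have h1 := (hew.mul_right he).mul_right hew.inv_right
    set v := w * t * w⁻¹
    have h2 : Commute d (c * v * c⁻¹) := by
      have h3 : Commute ((c⁻¹) * d * c⁻¹⁻¹) v := by rwa [inv_inv]
      simpa using hconj h3
    have hne : 0 < Nat.card (fixedInv (G := G) d a a) := by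
      haveI : Nonempty (fixedInv (G := G) d a a) := ⟨⟨c * t * c⁻¹, conj_mem_invMap (mem_pairStab.1 hc).1 ht, hdi⟩⟩
      exact Nat.card_pos
    have hne' : 0 < Nat.card (fixedInv (G := G) d b b) := by
      haveI : Nonempty (fixedInv (G := G) d b b) :=
        ⟨⟨c * v * c⁻¹, conj_mem_invMap (mem_pairStab.1 hc).2 (interchange_conj_mem ht hw), h2⟩⟩
      exact Nat.card_pos
    rcases fixed_card_cases hu hab hd with hc' | hc' | hc' | hc' <;> omega
  · have hY : ¬ (fixedInv (G := G) d a b).Nonempty := by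
      rintro ⟨j, hj, hdj⟩
      obtain ⟨c, hc, hcw⟩ := exists_conj_swap hu hab hw hj
      rw [← hcw] at hdj
      have hmem : c⁻¹ * d * c ∈ pairStab G a b := mul_mem (mul_mem (inv_mem hc) hd) hc
      have he : Commute ((c⁻¹) * d * c⁻¹⁻¹) t := by
        rw [inv_inv]; exact (h.commute_iff hab ht hw hEw hmem).1 (hconj' hdj)
      exact hX ⟨c * t * c⁻¹, conj_mem_invMap (mem_pairStab.1 hc).1 ht, by simpa using hconj he⟩
    rw [Set.not_nonempty_iff_eq_empty.1 hX, Set.not_nonempty_iff_eq_empty.1 hY]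

end CfsgLib.BenderWorld.Shape.OfWorld
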