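import Cfsg.Agent.BenderWorld.Shape.OfWorld.Basic

/-!
# World to `Shape.Setup`: involutions of a local at a point

`eq_of_isR1`: a local of 2-rank one has one involution at each point.  `invol_comm`: the involutions
of a local at a point commute.  `exists_invol_commute`: elements normalising a local and fixing three
of its points commute with an involution of it at each of these points.
-/

set_option autoImplicit false
set_option linter.style.haveILetI false

namespace CfsgLib.BenderWorld.Shape.OfWorld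

open CfsgLib.Small CfsgLib.SEmbed Subgroup

variable {G : Type*} [Group G] [Finite G] {Ω : Type*} [MulAction G Ω]

omit [Finite G] in
theorem le_normalizer_coreIn {M : Subgroup G} {g o : G} (hg : g ∈ M) (ho : o ∈ coreIn M) :
    g * o * g⁻¹ ∈ coreIn M :=
  conj_mem_coreIn (le_normalizer hg) ho

omit [Finite G] in
/-- An element of a local of 2-rank one inverted by one of its involutions lies in the core. -/
theorem mem_core_of_inverted {M : Subgroup G} (h1 : IsR1 M) {u x : G} (hu : u ∈ M) (hu2 : orderOf u = 2)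
    (hx : x ∈ M) (hodd : Odd (orderOf x)) (hinv : u * x * u⁻¹ = x⁻¹) : x ∈ coreIn M := by
  obtain ⟨o, ho, c, -, hc, hxoc⟩ := h1 u hu hu2 x hx
  refine mem_of_odd_of_pow_mem hodd (n := 1) ?_
  have h2 : x ^ 2 ^ 1 = o * (u * o * u⁻¹)⁻¹ := by
    have h3 : u * c * u⁻¹ = c := by rw [← hc.eq, mul_inv_cancel_right]
    calc x ^ 2 ^ 1 = x * (x⁻¹)⁻¹ := by rw [pow_one, sq, inv_inv]
      _ = o * c * (u * (o * c) * u⁻¹)⁻¹ := by rw [← hinv, hxoc]
      _ = o * c * ((u * c * u⁻¹)⁻¹ * (u * o * u⁻¹)⁻¹) := by group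
      _ = _ := by rw [h3]; group
  rw [h2]
  exact mul_mem ho (inv_mem (le_normalizer_coreIn hu ho))

/-- **A local of 2-rank one has only one involution at each of its points.** -/
theorem Ready.eq_of_isR1 (h : Ready G Ω) {M : Subgroup G} (h1 : IsR1 M) {a b : Ω} (hab : a ≠ b)
    {t v i : G} (htM : t ∈ M) (ht : t ∈ invMap (G := G) a a) (hvM : v ∈ M)
    (hv : v ∈ invMap (G := G) b b) (hiM : i ∈ M) (hi : i ∈ invMap (G := G) a a) : i = t := by
  have hu := h.world.uf
  obtain ⟨u, huM, hu', hut⟩ := exists_interchange_in hu hab ht hv htM hvM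
  set O := coreIn M with hO
  set Oa := O ⊓ MulAction.stabilizer G a with hOa
  set Oab := O ⊓ pairStab G a b with hOab
  -- all involutions at `a` are conjugate under `Oa`
  have hclass : ∀ j ∈ M, j ∈ invMap (G := G) a a → ∃ o ∈ Oa, o * t * o⁻¹ = j := by
    intro j hjM hj
    obtain ⟨g, hgM, hgj⟩ := isConj_in hu htM hvM ht.1 hv.1 ht.2 hv.2 hab htM hjM ht.1 hj.1
    obtain ⟨o, ho, c, -, hc, hgoc⟩ := h1 t htM ht.1 g hgM
    have hj' : o * t * o⁻¹ = j := by
      rw [← hgj, hgoc]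
      calc o * t * o⁻¹ = o * (t * c) * c⁻¹ * o⁻¹ := by group
        _ = _ := by rw [← hc.eq]; group
    refine ⟨o, ⟨ho, hu.unique j hj.1 _ _ ?_ hj.2⟩, hj'⟩
    rw [← hj', smul_smul, inv_mul_cancel_right, mul_smul, ht.2]
  -- all swappers in `M` are conjugate under `Oab`
  have hswap : ∀ w ∈ M, w ∈ invMap (G := G) a b → ∃ o ∈ Oab, o * u * o⁻¹ = w := by
    intro w hwM hw
    have hD : u * w ∈ pairStab G a b := mem_pairStab.2
      ⟨by rw [mul_smul, hw.2, smul_back hu'.1 hu'.2],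
       by rw [mul_smul, smul_back hw.1 hw.2, hu'.2]⟩
    have hodd := odd_orderOf (odd_pairStab hu hab) hD
    have hO : u * w ∈ O := mem_core_of_inverted h1 huM hu'.1 (mul_mem huM hwM) hodd (by
      rw [mul_inv_rev, inv_eq_self_of_orderOf_two hu'.1, inv_eq_self_of_orderOf_two hw.1,
        ← mul_assoc, mul_self_of_orderOf_two hu'.1, one_mul])
    obtain ⟨k, hk⟩ := conj_pow_eq_of_odd hu'.1 hw.1 hodd
    exact ⟨_, pow_mem (show u * w ∈ Oab from ⟨hO, hD⟩) k, hk⟩
  have htOa : ∀ o ∈ Oa, t * o * t⁻¹ ∈ Oa := fun o ho => ⟨le_normalizer_coreIn htM ho.1,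
    (MulAction.stabilizer G a).mul_mem ((MulAction.stabilizer G a).mul_mem ht.2 ho.2)
      ((MulAction.stabilizer G a).inv_mem ht.2)⟩
  have huOab : ∀ o ∈ Oab, u * o * u⁻¹ ∈ Oab := fun o ho =>
    ⟨le_normalizer_coreIn huM ho.1, conj_mem_pairStab hu' ho.2⟩
  have hoddO : Odd (Nat.card Oa) := (odd_coreIn M).of_dvd_nat (card_dvd_of_le inf_le_left)
  have hoddO' : Odd (Nat.card Oab) := (odd_coreIn M).of_dvd_nat (card_dvd_of_le inf_le_left)
  -- as many involutions at `a` as swappers in `M`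
  have hcards : Nat.card {j | ∃ k ∈ Oa, k * t * k⁻¹ = j} = Nat.card {w | ∃ k ∈ Oab, k * u * k⁻¹ = w} := by
    have e1 : {j | ∃ k ∈ Oa, k * t * k⁻¹ = j} = {j | j ∈ M ∧ j ∈ invMap (G := G) a a} := by
      ext j
      refine ⟨?_, fun hj => hclass j hj.1 hj.2⟩
      rintro ⟨k, hk, rfl⟩
      have hkM : k ∈ M := coreIn_le M hk.1
      exact ⟨mul_mem (mul_mem hkM htM) (inv_mem hkM), conj_mem_invMap hk.2 ht⟩
    have e2 : {w | ∃ k ∈ Oab, k * u * k⁻¹ = w} = {w | w ∈ M ∧ w ∈ invMap (G := G) a b} := by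
      ext w
      refine ⟨?_, fun hw => hswap w hw.1 hw.2⟩
      rintro ⟨k, hk, rfl⟩
      have hkM : k ∈ M := coreIn_le M hk.1
      exact ⟨mul_mem (mul_mem hkM huM) (inv_mem hkM), conj_mem_invMap_pair hk.2 hu'⟩
    rw [e1, e2]
    -- `w` goes to the conjugate of `v`
    refine (Nat.card_eq_of_bijective (fun w : {w | w ∈ M ∧ w ∈ invMap (G := G) a b} =>
      (⟨w.1 * v * w.1⁻¹, mul_mem (mul_mem w.2.1 hvM) (inv_mem w.2.1),
        interchange_conj_mem hv ⟨w.2.2.1, smul_back w.2.2.1 w.2.2.2⟩⟩ :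
        {j | j ∈ M ∧ j ∈ invMap (G := G) a a})) ⟨?_, ?_⟩).symm
    · rintro ⟨w, hwM, hw⟩ ⟨w', hw'M, hw'⟩ hww
      have e : w * v * w⁻¹ = w' * v * w'⁻¹ := congrArg Subtype.val hww
      obtain ⟨k, -, huniq⟩ := existsUnique_interchange hu hab.symm hv
        (interchange_conj_mem hv ⟨hw.1, smul_back hw.1 hw.2⟩)
      exact Subtype.ext ((huniq w ⟨⟨hw.1, smul_back hw.1 hw.2⟩, rfl⟩).trans
        (huniq w' ⟨⟨hw'.1, smul_back hw'.1 hw'.2⟩, e.symm⟩).symm)
    · rintro ⟨j, hjM, hj⟩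
      obtain ⟨w, hwM, hw, hwv⟩ := exists_interchange_in hu hab.symm hv hj hvM hjM
      exact ⟨⟨w, hwM, hw.1, smul_back hw.1 hw.2⟩, Subtype.ext hwv⟩
  have h3 := card_class_mul Oa t
  have h4 := card_class_mul Oab u
  -- each prime has a Sylow subgroup of `Oa` centralised by `t`
  suffices hcent : ∀ o ∈ Oa, Commute o t by
    obtain ⟨o, ho, hoi⟩ := hclass i hiM hi
    rw [← hoi, (hcent o ho).eq, mul_inv_cancel_right]
  have hdvd : Nat.card Oa ∣ Nat.card ↥(Oa ⊓ centralizer ({t} : Set G)) := by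
    refine (Nat.factorization_prime_le_iff_dvd Nat.card_pos.ne' Nat.card_pos.ne').1 fun r hr => ?_
    haveI := Fact.mk hr
    have hsol : ∀ z : G, Group.IsSolvable (zpowers z) :=
      fun z => Group.isSolvable_of_comm fun a b => mul_comm' a b
    by_cases hdvd : r ∣ numInv G a
    · obtain ⟨S, hS⟩ := CfsgLib.Coprime.exists_invariant_sylow (A := zpowers t) (G := Oa)
        (zpowers_le.2 (CfsgLib.LocalStructure.mem_normalizer_of_forall htOa))
        (by rw [Nat.card_zpowers, ht.1]; exact Nat.coprime_two_left.2 hoddO) (Or.inl (hsol t)) r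
      have hSle : (S : Subgroup Oa).map Oa.subtype ≤ Oa ⊓ centralizer ({t} : Set G) :=
        le_inf (map_subtype_le _) fun s hs => mem_centralizer_singleton_iff.2
          ((h.good hdvd).commute_of_fix ht (S.2.map _) (zpowers_le.1 hS)
            (fun g hg => (map_subtype_le _ hg).2) s hs).eq
      have h5 := card_dvd_of_le hSle
      rw [card_map_of_injective Oa.subtype_injective, S.card_eq_multiplicity] at h5
      exact (hr.pow_dvd_iff_le_factorization Nat.card_pos.ne').1 h5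
    · obtain ⟨S, hS⟩ := CfsgLib.Coprime.exists_invariant_sylow (A := zpowers u) (G := Oab)
        (zpowers_le.2 (CfsgLib.LocalStructure.mem_normalizer_of_forall huOab))
        (by rw [Nat.card_zpowers, hu'.1]; exact Nat.coprime_two_left.2 hoddO') (Or.inl (hsol u)) r
      have hSle : (S : Subgroup Oab).map Oab.subtype ≤ Oab ⊓ centralizer ({u} : Set G) :=
        le_inf (map_subtype_le _) fun s hs => mem_centralizer_singleton_iff.2
          (commute_swapper_of_not_dvd hu hab hdvd (S.2.map _) ((map_subtype_le _).trans inf_le_right)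
            hu' (zpowers_le.1 hS) s hs).eq
      have h5 := card_dvd_of_le hSle
      rw [card_map_of_injective Oab.subtype_injective, S.card_eq_multiplicity] at h5
      have h6 := (hr.pow_dvd_iff_le_factorization Nat.card_pos.ne').1 h5
      have hne : Nat.card {w | ∃ k ∈ Oab, k * u * k⁻¹ = w} ≠ 0 := fun e => by
        rw [e, zero_mul] at h4; exact Nat.card_pos.ne' h4.symm
      have h7 := congrArg (fun n => n.factorization r) h4
      rw [Nat.factorization_mul hne Nat.card_pos.ne', Finsupp.add_apply] at h7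
      rw [← h3, hcards, Nat.factorization_mul hne Nat.card_pos.ne', Finsupp.add_apply]
      omega
  intro o ho
  have e : Oa ⊓ centralizer ({t} : Set G) = Oa :=
    eq_of_le_of_card_ge inf_le_left (Nat.le_of_dvd Nat.card_pos hdvd)
  exact mem_centralizer_singleton_iff.1 (e.ge ho).2

/-- A local with involutions at two points is `R1` or `R2`. -/
theorem Ready.local_cases (h : Ready G Ω) {M : Subgroup G} (hM : M ≠ ⊤) {a b : Ω} (hab : a ≠ b)
    {t v : G} (htM : t ∈ M) (ht : t ∈ invMap (G := G) a a) (hvM : v ∈ M)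
    (hv : v ∈ invMap (G := G) b b) : IsR1 M ∨ IsR2 M a := by
  obtain ⟨m, hm, hm', -⟩ := exists_interchange_in h.world.uf hab ht hv htM hvM
  exact h.world.ih M hM a ⟨t, htM, ht.1, ht.2⟩ ⟨m, hm, fun e => hab (e.symm.trans hm'.2)⟩

/-- **The involutions of a local at a point commute.** -/
theorem Ready.invol_comm (h : Ready G Ω) {M : Subgroup G} (hM : M ≠ ⊤) {a b : Ω} (hab : a ≠ b)
    {v i j : G} (hvM : v ∈ M) (hv : v ∈ invMap (G := G) b b) (hiM : i ∈ M)
    (hi : i ∈ invMap (G := G) a a) (hjM : j ∈ M) (hj : j ∈ invMap (G := G) a a) : Commute i j := by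
  rcases h.local_cases hM hab hiM hi hvM hv with h1 | h2
  · rw [h.eq_of_isR1 h1 hab hiM hi hvM hv hjM hj]
  obtain ⟨U, -, -, -, -, hUc, -, hcomm⟩ := h2.twoClosed
  have hmem : ∀ k ∈ M, k ∈ invMap (G := G) a a → k ∈ U := fun k hkM hk =>
    hUc k ⟨hkM, hk.2⟩ 1 (by rw [pow_one, sq, mul_self_of_orderOf_two hk.1]; exact one_mem _)
  have hd := hcomm j (hmem j hjM hj) i (hmem i hiM hi) hi.1
  rw [inv_eq_self_of_orderOf_two hi.1, inv_eq_self_of_orderOf_two hj.1] at hd
  set d := j * i * j * i with hdd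
  have hjd : Commute d j := h.core M hM a h2 j hjM hj d hd
  have hjj := mul_self_of_orderOf_two hj.1
  have hii := mul_self_of_orderOf_two hi.1
  have h1 : d * d = 1 := by
    have e1 : j * d * j = d⁻¹ := by
      rw [hdd, mul_inv_rev, mul_inv_rev, mul_inv_rev, inv_eq_self_of_orderOf_two hi.1,
        inv_eq_self_of_orderOf_two hj.1]
      calc j * (j * i * j * i) * j = (j * j) * (i * (j * (i * j))) := by group
        _ = i * (j * (i * j)) := by rw [hjj, one_mul]
    rw [← hjd.eq, mul_assoc, hjj, mul_one] at e1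
    nth_rewrite 2 [e1]
    exact mul_inv_cancel d
  have h4 : d = 1 := mem_bot.1 (mem_of_odd_of_pow_mem (odd_orderOf (odd_coreIn M) hd) (n := 1)
    (by rw [mem_bot, pow_one, sq, h1]))
  show i * j = j * i
  calc i * j = (i * j) * d := by rw [h4, mul_one]
    _ = i * (j * j) * i * j * i := by rw [hdd]; group
    _ = j * i := by rw [hjj, mul_one, hii, one_mul]

/-- **Elements normalising a local and fixing three of its points commute with an involution of it
at each of them.** -/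
theorem Ready.exists_invol_commute (h : Ready G Ω) {M : Subgroup G} (hM : M ≠ ⊤) {a b c : Ω}
    (hab : a ≠ b) (hac : a ≠ c) (hbc : b ≠ c) {t v v' : G} (htM : t ∈ M)
    (ht : t ∈ invMap (G := G) a a) (hvM : v ∈ M) (hv : v ∈ invMap (G := G) b b) (hv'M : v' ∈ M)
    (hv' : v' ∈ invMap (G := G) c c) {S : Set G}
    (hS : ∀ e ∈ S, e ∈ normalizer (M : Set G) ∧ e • a = a ∧ e • b = b ∧ e • c = c) :
    ∃ z ∈ M, z ∈ invMap (G := G) a a ∧ ∀ e ∈ S, Commute e z := by
  have hu := h.world.uf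
  have hconj : ∀ e ∈ S, ∀ k ∈ M, k ∈ invMap (G := G) a a → e * k * e⁻¹ ∈ M ∧
      e * k * e⁻¹ ∈ invMap (G := G) a a := fun e he k hkM hk =>
    ⟨(mem_normalizer_iff.1 (hS e he).1 k).1 hkM, conj_mem_invMap (hS e he).2.1 hk⟩
  rcases h.local_cases hM hab htM ht hvM hv with h1 | h2
  · exact ⟨t, htM, ht, fun e he => mul_inv_eq_iff_eq_mul.1
      (h.eq_of_isR1 h1 hab htM ht hvM hv (hconj e he t htM ht).1 (hconj e he t htM ht).2)⟩
  obtain ⟨U, -, hUM, -, hU2, hUc, hUtr, -⟩ := h2.twoClosed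
  set O := coreIn M with hO
  have horb : ∀ {p : Ω} {s : G}, a ≠ p → s ∈ M → s ∈ invMap (G := G) p p →
      ∃ m ∈ M, m • a = p := by
    intro p s hap hsM hs
    obtain ⟨m, hm, hm', -⟩ := exists_interchange_in hu hap ht hs htM hsM
    exact ⟨m, hm, hm'.2⟩
  obtain ⟨m, hm, hmb⟩ := horb hab hvM hv
  obtain ⟨m', hm', hm'c⟩ := horb hac hv'M hv'
  have hOb : ∀ o ∈ O, o • b = b := fun o ho => by rw [← hmb]; exact h2.core_fix o ho m hm
  obtain ⟨u, huU, hub⟩ := hUtr b ⟨⟨m, hm⟩, hmb⟩ c ⟨⟨m', hm'⟩, hm'c⟩ hab.symm hac.symm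
  have huM : u ∈ M := (hUM huU).1
  have hua : u • a = a := (hUM huU).2
  obtain ⟨n, hn⟩ := hU2 u huU
  have huO : u ∉ O := fun e => hbc ((hOb u e).symm.trans hub)
  obtain ⟨l, hl⟩ : 2 ∣ orderOf u := by
    by_contra hodd
    exact huO (mem_of_odd_of_pow_mem (Nat.odd_iff.2 (Nat.two_dvd_ne_zero.1 hodd)) hn)
  have hl0 : l ≠ 0 := fun e => (orderOf_pos u).ne' (by rw [hl, e, mul_zero])
  set z := u ^ l with hz
  have hzo : orderOf z = 2 := by
    rw [hz, orderOf_pow_of_dvd hl0 (Dvd.intro_left 2 hl.symm), hl,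
      Nat.mul_div_cancel _ (Nat.pos_of_ne_zero hl0)]
  have hza : z • a = a :=
    (MulAction.mem_stabilizer_iff).1 (pow_mem (show u ∈ MulAction.stabilizer G a from hua) _)
  refine ⟨z, pow_mem huM _, ⟨hzo, hza⟩, fun e he => ?_⟩
  obtain ⟨heN, hea, heb, hec⟩ := hS e he
  -- `e` centralises `u` modulo the core
  set y := e * u * e⁻¹ with hy
  have hyM : y ∈ M := (mem_normalizer_iff.1 heN u).1 huM
  have hya : y • a = a := by
    rw [hy, mul_smul, mul_smul, inv_smul_eq_iff.2 hea.symm, hua, hea]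
  have hyU : y ∈ U := hUc y ⟨hyM, hya⟩ n (by rw [hy, conj_pow]; exact conj_mem_coreIn heN hn)
  have hfix : u⁻¹ * y ∈ pairStab G a b := mem_pairStab.2
    ⟨by rw [mul_smul, hya, inv_smul_eq_iff, hua],
     by rw [hy, mul_smul, mul_smul, mul_smul, inv_smul_eq_iff.2 heb.symm, hub, hec, inv_smul_eq_iff, hub]⟩
  obtain ⟨k, hk⟩ := hU2 _ (U.mul_mem (U.inv_mem huU) hyU)
  have hcore : y * u⁻¹ ∈ O := by
    have := le_normalizer_coreIn huM
      (mem_of_odd_of_pow_mem (odd_orderOf (odd_pairStab hu hab) hfix) hk)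
    rwa [mul_inv_cancel_left] at this
  have hpow : ∀ j : ℕ, y ^ j * (u ^ j)⁻¹ ∈ O := by
    intro j
    induction j with
    | zero => simp
    | succ j ih =>
      rw [show y ^ (j + 1) * (u ^ (j + 1))⁻¹ = (y ^ j * (u ^ j)⁻¹) * (u ^ j * (y * u⁻¹) * (u ^ j)⁻¹) by
        group]
      exact mul_mem ih (le_normalizer_coreIn (pow_mem huM _) hcore)
  have hzM : z ∈ M := pow_mem huM _
  obtain ⟨hi1, hi2⟩ := hconj e he z hzM ⟨hzo, hza⟩
  have hcm := h.invol_comm hM hab hvM hv hi1 hi2 hzM ⟨hzo, hza⟩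
  have hd : e * z * e⁻¹ * z⁻¹ ∈ O := by
    rw [hz, ← conj_pow]; exact hpow l
  set i := e * z * e⁻¹
  have hd2 : (i * z⁻¹) ^ 2 ^ 1 = 1 := by
    rw [pow_one, sq, inv_eq_self_of_orderOf_two hzo]
    calc i * z * (i * z) = i * z * (z * i) := by rw [hcm.eq]
      _ = i * (z * z) * i := by group
      _ = 1 := by rw [mul_self_of_orderOf_two hzo, mul_one, mul_self_of_orderOf_two hi2.1]
  have : i * z⁻¹ = 1 := mem_bot.1 (mem_of_odd_of_pow_mem (odd_orderOf (odd_coreIn M) hd) (mem_bot.2 hd2))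
  exact mul_inv_eq_iff_eq_mul.1 (mul_inv_eq_one.1 this)

end CfsgLib.BenderWorld.Shape.OfWorld
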